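import Groth.Prelude.Def_MoreMor
import Groth.Agent.Lib.BlowUp.IdealComap
import Mathlib.AlgebraicGeometry.IdealSheaf.Functorial

/-!
# First order thickenings: base change, locality, restriction to opens
-/

universe u

set_option maxHeartbeats 400000

namespace GrothLib.UnivThick

open AlgebraicGeometry CategoryTheory Limits

theorem fot_isClosedImmersion {T T' : Scheme.{u}} {t : T ⟶ T'}
    (h : MoreMor.IsFirstOrderThickening t) : IsClosedImmersion t := h.1.1

theorem fot_surjective {T T' : Scheme.{u}} {t : T ⟶ T'}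
    (h : MoreMor.IsFirstOrderThickening t) : Surjective t := h.1.2

theorem comap_mul {X Y : Scheme.{u}} (I J : Y.IdealSheafData) (f : X ⟶ Y) :
    (I * J).comap f = I.comap f * J.comap f := by
  have h : ∀ x : X, ∃ (U : Y.affineOpens) (V : X.affineOpens), x ∈ V.1 ∧ V.1 ≤ f ⁻¹ᵁ U.1 := by
    intro x
    obtain ⟨_, ⟨U, hU, rfl⟩, hxU, -⟩ :=
      Y.isBasis_affineOpens.exists_subset_of_mem_open (Set.mem_univ (f x)) isOpen_univ
    obtain ⟨_, ⟨V, hV, rfl⟩, hxV, hle⟩ :=
      X.isBasis_affineOpens.exists_subset_of_mem_open hxU (f ⁻¹ᵁ U).2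
    exact ⟨⟨U, hU⟩, ⟨V, hV⟩, hxV, hle⟩
  choose U V hxV hV using h
  refine Scheme.IdealSheafData.ext_of_iSup_eq_top V
    (top_unique fun x _ => TopologicalSpace.Opens.mem_iSup.mpr ⟨x, hxV x⟩) fun x => ?_
  simp only [Scheme.IdealSheafData.ideal_mul, Pi.mul_apply,
    GrothLib.BlowUp.ideal_comap_eq_map _ f (U x) (V x) (hV x), Ideal.map_mul]

theorem ker_of_isPullback {W W' T T' : Scheme.{u}} {k : W ⟶ T} {t' : W ⟶ W'} {t : T ⟶ T'}
    {g : W' ⟶ T'} [IsClosedImmersion t] (H : IsPullback k t' t g) : t'.ker = t.ker.comap g := by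
  rw [← Scheme.IdealSheafData.ker_fst_of_isClosedImmersion t g,
    show t' = H.flip.isoPullback.hom ≫ pullback.fst g t from H.flip.isoPullback_hom_fst.symm,
    Scheme.Hom.ker_comp_of_isIso]

/-- First order thickenings are stable under base change. -/
theorem fot_of_isPullback {W W' T T' : Scheme.{u}} {k : W ⟶ T} {t' : W ⟶ W'} {t : T ⟶ T'}
    {g : W' ⟶ T'} (H : IsPullback k t' t g) (ht : MoreMor.IsFirstOrderThickening t) :
    MoreMor.IsFirstOrderThickening t' := by
  haveI := fot_isClosedImmersion ht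
  refine ⟨⟨MorphismProperty.of_isPullback H ht.1.1, MorphismProperty.of_isPullback H ht.1.2⟩, ?_⟩
  rw [ker_of_isPullback H, ← comap_mul, ht.2, Scheme.IdealSheafData.comap_bot]

theorem fot_morphismRestrict {T T' : Scheme.{u}} {t : T ⟶ T'}
    (ht : MoreMor.IsFirstOrderThickening t) (W : T'.Opens) :
    MoreMor.IsFirstOrderThickening (t ∣_ W) :=
  fot_of_isPullback (isPullback_morphismRestrict t W).flip ht

/-- An ideal sheaf vanishing on an open cover vanishes. -/
theorem eq_bot_of_comap_eq_bot {X : Scheme.{u}} (J : X.IdealSheafData)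
    (h : ∀ x : X, ∃ (W : Scheme.{u}) (g : W ⟶ X), IsOpenImmersion g ∧ x ∈ Set.range g ∧
      J.comap g = ⊥) : J = ⊥ := by
  have h' : ∀ x : X, ∃ U : X.affineOpens, x ∈ U.1 ∧ J.ideal U = ⊥ := by
    intro x
    obtain ⟨W, g, hg, ⟨w, rfl⟩, hJ⟩ := h x
    obtain ⟨_, ⟨V, hV, rfl⟩, hwV, -⟩ :=
      W.isBasis_affineOpens.exists_subset_of_mem_open (Set.mem_univ w) isOpen_univ
    refine ⟨⟨g ''ᵁ V, hV.image_of_isOpenImmersion g⟩, ⟨w, hwV, rfl⟩, ?_⟩
    have e := Scheme.IdealSheafData.ideal_comap_of_isOpenImmersion J g ⟨V, hV⟩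
    rw [hJ, Scheme.IdealSheafData.ideal_bot, Pi.bot_apply] at e
    rw [eq_bot_iff]
    intro y hy
    have h1 : (g.appIso V).hom.hom y ∈ Ideal.comap (g.appIso V).inv.hom
        (J.ideal ⟨g ''ᵁ V, hV.image_of_isOpenImmersion g⟩) := by
      rw [Ideal.mem_comap]
      have : (g.appIso V).inv.hom ((g.appIso V).hom.hom y) = y :=
        (g.appIso V).commRingCatIsoToRingEquiv.symm_apply_apply y
      rw [this]
      exact hy
    rw [← e, Ideal.mem_bot] at h1
    rw [Ideal.mem_bot]
    exact (g.appIso V).commRingCatIsoToRingEquiv.map_eq_zero_iff.mp h1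
  choose U hxU hU using h'
  refine Scheme.IdealSheafData.ext_of_iSup_eq_top U
    (top_unique fun x _ => TopologicalSpace.Opens.mem_iSup.mpr ⟨x, hxU x⟩) fun x => ?_
  rw [hU, Scheme.IdealSheafData.ideal_bot, Pi.bot_apply]

/-- Being a first order thickening is local on the target. -/
theorem fot_of_local {T T' : Scheme.{u}} (t : T ⟶ T')
    (h : ∀ x : T', ∃ (W W' : Scheme.{u}) (k : W ⟶ T) (t' : W ⟶ W') (g : W' ⟶ T'),
      IsPullback k t' t g ∧ IsOpenImmersion g ∧ x ∈ Set.range g ∧ MoreMor.IsFirstOrderThickening t') :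
    MoreMor.IsFirstOrderThickening t := by
  choose W W' k t' g hsq hg hx ht' using h
  haveI := hg
  have hU : iSup (fun x : T' => (g x).opensRange) = ⊤ :=
    top_unique fun x _ => TopologicalSpace.Opens.mem_iSup.mpr ⟨x, hx x⟩
  have key : ∀ (P : MorphismProperty Scheme.{u}) [P.RespectsIso] [IsZariskiLocalAtTarget P],
      (∀ x, P (t' x)) → P t := by
    intro P _ _ hP
    rw [IsZariskiLocalAtTarget.iff_of_iSup_eq_top (P := P) _ hU]
    intro x
    have he : (g x).isoOpensRange.hom ≫ (g x).opensRange.ι = g x := (g x).isoOpensRange_hom_ι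
    have hsq' : IsPullback (k x) (t' x ≫ (g x).isoOpensRange.hom) t (g x).opensRange.ι :=
      (hsq x).of_iso (Iso.refl _) (Iso.refl _) (g x).isoOpensRange (Iso.refl _)
        (by simp only [Iso.refl_hom, Category.id_comp, Category.comp_id])
        (by simp only [Iso.refl_hom, Category.id_comp])
        (by simp only [Iso.refl_hom, Category.id_comp, Category.comp_id])
        (by simp only [Iso.refl_hom, Category.comp_id, he])
    let e := hsq'.isoIsPullback _ _ (isPullback_morphismRestrict t (g x).opensRange).flip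
    have h2 : t ∣_ (g x).opensRange = e.inv ≫ t' x ≫ (g x).isoOpensRange.hom :=
      (hsq'.isoIsPullback_inv_snd _ _ _).symm
    rw [h2, P.cancel_left_of_respectsIso, P.cancel_right_of_respectsIso]
    exact hP x
  haveI : IsClosedImmersion t := key @IsClosedImmersion fun x => (ht' x).1.1
  refine ⟨⟨inferInstance, key @Surjective fun x => (ht' x).1.2⟩, ?_⟩
  refine eq_bot_of_comap_eq_bot _ fun x => ⟨W' x, g x, hg x, hx x, ?_⟩
  rw [comap_mul, ← ker_of_isPullback (hsq x), (ht' x).2]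

theorem injective_of_fot {Z Z' : Scheme.{u}} {i : Z ⟶ Z'} (hi : MoreMor.IsFirstOrderThickening i) :
    Function.Injective i :=
  (fot_isClosedImmersion hi).base_closed.injective

/-- An open of the source of a thickening comes from an open of the target. -/
theorem exists_isPullback_opens {W Z Z' : Scheme.{u}} {i : Z ⟶ Z'}
    (hi : MoreMor.IsFirstOrderThickening i) (κZ : W ⟶ Z) [IsOpenImmersion κZ] :
    ∃ (O : Z'.Opens) (iW : W ⟶ O), IsPullback κZ iW i O.ι := by
  haveI := fot_isClosedImmersion hi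
  let O : Z'.Opens := ⟨(i '' (Set.range κZ)ᶜ)ᶜ,
    (i.isClosedEmbedding.isClosedMap _ κZ.isOpenEmbedding.isOpen_range.isClosed_compl).isOpen_compl⟩
  have hO : ∀ z, i z ∈ O ↔ z ∈ Set.range κZ := fun z => by
    show i z ∈ (i '' (Set.range κZ)ᶜ)ᶜ ↔ _
    rw [Set.mem_compl_iff, Set.InjOn.mem_image_iff (injective_of_fot hi).injOn (Set.subset_univ _)
      (Set.mem_univ z), Set.notMem_compl_iff]
  let iW : W ⟶ O := IsOpenImmersion.lift O.ι (κZ ≫ i) (by
    rw [Scheme.Opens.range_ι]
    rintro _ ⟨w, rfl⟩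
    exact (hO (κZ w)).mpr ⟨w, rfl⟩)
  refine ⟨O, iW, (IsOpenImmersion.isPullback iW κZ O.ι i (IsOpenImmersion.lift_fac _ _ _).symm ?_).flip⟩
  ext z
  show i z ∈ O.ι.opensRange ↔ z ∈ Set.range κZ
  rw [Scheme.Opens.opensRange_ι]
  exact hO z

end GrothLib.UnivThick
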