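import Groth.Agent.Lib.UnivThick.Univ

/-!
# The affine universal thickening is a universal thickening of schemes
-/

universe u

set_option maxHeartbeats 800000

namespace GrothLib.UnivThick

open AlgebraicGeometry CategoryTheory Limits
open GrothLib.FormalLift (UniqueLift uniqueLift_glue surjective_specMap_quotient)

/-- The spectrum of a surjection with square zero kernel is a first order thickening. -/
theorem fot_spec {B' B : CommRingCat.{u}} (φ : B' ⟶ B) (hs : Function.Surjective φ.hom)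
    (hk : RingHom.ker φ.hom ^ 2 = ⊥) : MoreMor.IsFirstOrderThickening (Spec.map φ) := by
  haveI : IsClosedImmersion (Spec.map φ) := IsClosedImmersion.spec_of_surjective _ hs
  refine ⟨⟨inferInstance, ⟨fun x => ?_⟩⟩, ?_⟩
  · have hle : RingHom.ker φ.hom ≤ x.asIdeal := fun y hy ↦ x.isPrime.mem_of_pow_mem 2
      (show y ^ 2 ∈ x.asIdeal by
        have : y ^ 2 ∈ RingHom.ker φ.hom ^ 2 := Ideal.pow_mem_pow hy 2
        rw [hk] at this
        simp [(Submodule.mem_bot _).mp this])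
    have : x ∈ Set.range (PrimeSpectrum.comap φ.hom) := by
      rw [range_comap_of_surjective _ _ hs]
      exact hle
    exact this
  · have hker : (Spec.map φ).ker.ideal ⟨⊤, isAffineOpen_top _⟩ =
        (RingHom.ker φ.hom).map (Scheme.ΓSpecIso B').inv.hom := by
      rw [Scheme.Hom.ker_apply]
      show RingHom.ker (Spec.map φ).appTop.hom = _
      have h0 : (Spec.map φ).appTop =
          (Scheme.ΓSpecIso B').hom ≫ φ ≫ (Scheme.ΓSpecIso B).inv := by
        rw [← Category.assoc]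
        exact (Iso.eq_comp_inv _).mpr (Scheme.ΓSpecIso_naturality _)
      rw [h0, CommRingCat.hom_comp, ← RingHom.comap_ker]
      have h1 : RingHom.ker (Scheme.ΓSpecIso B).inv.hom = ⊥ :=
        RingHom.ker_coe_equiv (Scheme.ΓSpecIso B).symm.commRingCatIsoToRingEquiv
      rw [CommRingCat.hom_comp, ← RingHom.comap_ker, h1, ← RingHom.ker_eq_comap_bot]
      exact (Ideal.map_comap_of_equiv (Scheme.ΓSpecIso B').symm.commRingCatIsoToRingEquiv).symm
    apply Scheme.IdealSheafData.ext_of_isAffine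
    rw [Scheme.IdealSheafData.ideal_mul, Pi.mul_apply, hker, ← Ideal.map_mul, ← pow_two, hk,
      Ideal.map_bot, Scheme.IdealSheafData.ideal_bot, Pi.bot_apply]

/-- Unique lifting is invariant under isomorphisms of the thickening. -/
theorem uniqueLift_of_iso {X Y S S' T T' : Scheme.{u}} {f : X ⟶ Y} (q : S ⟶ S') (t : T ⟶ T')
    (ee : T ≅ S) (ee' : T' ≅ S') (hc : t ≫ ee'.hom = ee.hom ≫ q) (a : T ⟶ X) (b : T' ⟶ Y)
    (H : UniqueLift q f (ee.inv ≫ a) (ee'.inv ≫ b)) : UniqueLift t f a b := by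
  obtain ⟨l, ⟨hl, hlb⟩, hu⟩ := H
  refine ⟨ee'.hom ≫ l, ⟨by rw [reassoc_of% hc, hl, Iso.hom_inv_id_assoc],
    by rw [Category.assoc, hlb, Iso.hom_inv_id_assoc]⟩, fun n ⟨hn, hnb⟩ => ?_⟩
  rw [← hu (ee'.inv ≫ n) ⟨?_, by rw [Category.assoc, hnb]⟩, Iso.hom_inv_id_assoc]
  rw [← cancel_epi ee.hom, ← reassoc_of% hc, Iso.hom_inv_id_assoc, Iso.hom_inv_id_assoc, hn]

/-- A first order thickening of an affine scheme is a quotient by a square zero ideal. -/
theorem exists_spec_model {T T' : Scheme.{u}} (t : T ⟶ T') (ht : MoreMor.IsFirstOrderThickening t)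
    (W : T'.Opens) (hW : IsAffineOpen W) :
    ∃ (C : CommRingCat.{u}) (I : Ideal C) (ee : (t ⁻¹ᵁ W).toScheme ≅ Spec (CommRingCat.of (C ⧸ I)))
      (ee' : W.toScheme ≅ Spec C), I ^ 2 = ⊥ ∧
        (t ∣_ W) ≫ ee'.hom = ee.hom ≫ Spec.map (CommRingCat.ofHom (Ideal.Quotient.mk I)) := by
  haveI := fot_isClosedImmersion ht
  have hW' : IsAffineOpen (t ⁻¹ᵁ W) := hW.preimage t
  have hI : t.ker.ideal ⟨W, hW⟩ ^ 2 = ⊥ := by
    rw [pow_two]
    have := congrArg (fun J : T'.IdealSheafData => J.ideal ⟨W, hW⟩) ht.2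
    simpa [-Scheme.Hom.ker_apply] using this
  have hker : RingHom.ker (t.app W).hom = t.ker.ideal ⟨W, hW⟩ :=
    (Scheme.Hom.ker_apply t ⟨W, hW⟩).symm
  let e : (Γ(T', W) ⧸ t.ker.ideal ⟨W, hW⟩) ≃+* Γ(T, t ⁻¹ᵁ W) :=
    (Ideal.quotEquivOfEq hker.symm).trans
      (RingHom.quotientKerEquivOfSurjective (t.app_surjective W hW))
  refine ⟨_, _, hW'.isoSpec ≪≫ Scheme.Spec.mapIso e.toCommRingCatIso.op, hW.isoSpec, hI, ?_⟩
  have h1 : t.app W = CommRingCat.ofHom (Ideal.Quotient.mk (t.ker.ideal ⟨W, hW⟩)) ≫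
      e.toCommRingCatIso.hom := rfl
  have h2 : Spec.map (t.app W) ≫ hW.fromSpec = hW'.fromSpec ≫ t := by
    rw [Scheme.Hom.app_eq_appLE]
    exact IsAffineOpen.SpecMap_appLE_fromSpec t hW hW' _
  rw [← cancel_mono hW.fromSpec, Category.assoc, IsAffineOpen.isoSpec_hom_fromSpec,
    morphismRestrict_ι]
  show _ = ((hW'.isoSpec.hom ≫ Spec.map e.toCommRingCatIso.hom) ≫ _) ≫ hW.fromSpec
  rw [Category.assoc, Category.assoc, ← Category.assoc (Spec.map e.toCommRingCatIso.hom),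
    ← Spec.map_comp, ← h1, h2, IsAffineOpen.isoSpec_hom_fromSpec_assoc]

/-- The spectrum of a universal thickening of rings is universal among all thickenings. -/
theorem univ_spec (A B B' : Type u) [CommRing A] [CommRing B] [CommRing B'] [Algebra A B]
    [Algebra A B'] (π : B' →ₐ[A] B) (hπ : OmegaSh.IsUnivThickeningRing A B B' π) :
    OmegaSh.IsUnivThickening (Spec.map (CommRingCat.ofHom (algebraMap A B)))
      (Spec.map (CommRingCat.ofHom π.toRingHom))
      (Spec.map (CommRingCat.ofHom (algebraMap A B'))) := by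
  obtain ⟨hs, hk, huniv⟩ := hπ
  refine ⟨fot_spec _ hs hk, ?_, fun T T' j b a hj w => ?_⟩
  · rw [← Spec.map_comp]
    congr 1
    ext r
    exact π.commutes r
  show UniqueLift j _ (a ≫ _) b
  refine uniqueLift_glue j _ _ b fun W₀ x hx => ?_
  obtain ⟨W, hW, hxW, hle⟩ : ∃ W : T'.Opens, IsAffineOpen W ∧ x ∈ W ∧ W ≤ W₀ := by
    obtain ⟨_, ⟨W, hW, rfl⟩, hxW, hle⟩ :=
      T'.isBasis_affineOpens.exists_subset_of_mem_open hx W₀.2
    exact ⟨W, hW, hxW, hle⟩
  refine ⟨W, hxW, hle, ?_⟩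
  obtain ⟨C, I, ee, ee', hI, hc⟩ := exists_spec_model j hj W hW
  refine uniqueLift_of_iso _ _ ee ee' hc _ _ ?_
  obtain ⟨α, hα⟩ := Spec.map_surjective (ee.inv ≫ (j ⁻¹ᵁ W).ι ≫ a)
  obtain ⟨β, hβ⟩ := Spec.map_surjective (ee'.inv ≫ W.ι ≫ b)
  have hw : CommRingCat.ofHom (algebraMap A B) ≫ α =
      β ≫ CommRingCat.ofHom (Ideal.Quotient.mk I) := Spec.map_injective (by
    rw [Spec.map_comp, Spec.map_comp, hα, hβ, ← cancel_epi ee.hom, ← reassoc_of% hc,
      Iso.hom_inv_id_assoc, morphismRestrict_ι_assoc, w, Category.assoc, Category.assoc,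
      Iso.hom_inv_id_assoc])
  rw [← reassoc_of% hα, ← Spec.map_comp, ← hβ]
  letI : Algebra A C := β.hom.toAlgebra
  let α' : B →ₐ[A] C ⧸ I := ⟨α.hom, fun r => congr($(hw).hom r)⟩
  obtain ⟨g, hg, hgu⟩ := huniv C I hI α'
  refine ⟨Spec.map (CommRingCat.ofHom g.toRingHom), ⟨?_, ?_⟩, fun n ⟨hn, hnb⟩ => ?_⟩
  · rw [← Spec.map_comp]
    congr 1
    ext r
    exact DFunLike.congr_fun hg r
  · rw [← Spec.map_comp]
    congr 1
    ext r
    exact g.commutes r
  · obtain ⟨ν, rfl⟩ := Spec.map_surjective n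
    rw [← Spec.map_comp] at hn hnb
    replace hn := Spec.map_injective hn
    replace hnb := Spec.map_injective hnb
    let ν' : B' →ₐ[A] C := ⟨ν.hom, fun r => congr($(hnb).hom r)⟩
    have : ν' = g := hgu ν' (AlgHom.ext fun r => congr($(hn).hom r))
    rw [← this]
    rfl

end GrothLib.UnivThick
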