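import Groth.Prelude.Def_Omega3
import Mathlib.RingTheory.Kaehler.Polynomial
import Mathlib.RingTheory.Unramified.Basic
import Mathlib.LinearAlgebra.TensorProduct.Quotient

/-!
# The universal first order thickening of a formally unramified algebra
-/

universe u

open TensorProduct

namespace GrothLib.UnivThick

theorem mem_smul_top_of_one_tmul_eq_zero {P S : Type u} [CommRing P] [CommRing S] [Algebra P S]
    (h : Function.Surjective (algebraMap P S)) {M : Type u} [AddCommGroup M] [Module P M] {x : M}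
    (hx : (1 : S) ⊗ₜ[P] x = 0) : x ∈ RingHom.ker (algebraMap P S) • (⊤ : Submodule P M) := by
  let e : (P ⧸ RingHom.ker (Algebra.ofId P S)) ≃ₐ[P] S :=
    Ideal.quotientKerAlgEquivOfSurjective h
  have h1 : LinearMap.rTensor M e.symm.toLinearMap ((1 : S) ⊗ₜ[P] x) = 0 := by rw [hx, map_zero]
  rw [LinearMap.rTensor_tmul] at h1
  have h2 := congrArg (TensorProduct.quotTensorEquivQuotSMul M (RingHom.ker (Algebra.ofId P S))) h1
  rw [show e.symm.toLinearMap (1 : S) = Ideal.Quotient.mk _ 1 from map_one e.symm,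
    TensorProduct.quotTensorEquivQuotSMul_mk_tmul, one_smul, map_zero,
    Submodule.Quotient.mk_eq_zero] at h2
  exact h2

theorem der_congr {R P S : Type u} [CommRing R] [CommRing P] [CommRing S] [Algebra R P]
    [Algebra P S] (h : Function.Surjective (algebraMap P S)) {M : Type u} [AddCommGroup M]
    [Module R M] [Module P M] [IsScalarTower R P M] (d : Derivation R P M) (N : Submodule P M) (hd : ∀ p, d p ∈ N)
    (hN : ∀ p ∈ RingHom.ker (algebraMap P S), ∀ m ∈ N, p • m = 0) {x y : P}
    (hxy : (1 : S) ⊗ₜ[P] KaehlerDifferential.D R P x = (1 : S) ⊗ₜ[P] KaehlerDifferential.D R P y) :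
    d x = d y := by
  have hmem := mem_smul_top_of_one_tmul_eq_zero h
    (x := KaehlerDifferential.D R P x - KaehlerDifferential.D R P y) (by rw [tmul_sub, hxy, sub_self])
  have hL : ∀ ω, d.liftKaehlerDifferential ω ∈ N := by
    intro ω
    have : (⊤ : Submodule P Ω[P⁄R]) ≤ N.comap d.liftKaehlerDifferential := by
      rw [← KaehlerDifferential.span_range_derivation, Submodule.span_le]
      rintro _ ⟨p, rfl⟩
      show d.liftKaehlerDifferential _ ∈ N
      rw [Derivation.liftKaehlerDifferential_comp_D]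
      exact hd p
    exact this trivial
  have hzero : ∀ ω ∈ RingHom.ker (algebraMap P S) • (⊤ : Submodule P Ω[P⁄R]),
      d.liftKaehlerDifferential ω = 0 := by
    intro ω hω
    refine Submodule.smul_induction_on hω (fun p hp m _ => ?_) fun a b ha hb => ?_
    · rw [map_smul, hN p hp _ (hL m)]
    · rw [map_add, ha, hb, add_zero]
  have h0 := hzero _ hmem
  rw [map_sub, Derivation.liftKaehlerDifferential_comp_D, Derivation.liftKaehlerDifferential_comp_D,
    sub_eq_zero] at h0
  exact h0

/-- The universal first order thickening exists. -/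
theorem exists_isUnivThickeningRing (R S : Type u) [CommRing R] [CommRing S] [Algebra R S]
    [Algebra.FormallyUnramified R S] :
    ∃ (S' : Type u) (_ : CommRing S') (_ : Algebra R S') (π : S' →ₐ[R] S),
      OmegaSh.IsUnivThickeningRing R S S' π := by
  classical
  let P := MvPolynomial S R
  let φ : P →ₐ[R] S := MvPolynomial.aeval (R := R) id
  letI : Algebra P S := φ.toRingHom.toAlgebra
  haveI : IsScalarTower R P S := .of_algebraMap_eq' φ.comp_algebraMap.symm
  have hsurj : Function.Surjective (algebraMap P S) :=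
    fun s => ⟨MvPolynomial.X s, MvPolynomial.aeval_X id s⟩
  let J : Ideal P := RingHom.ker (algebraMap P S)
  have hrange := KaehlerDifferential.range_kerCotangentToTensor R P S hsurj
  have hj : ∀ s : S, ∃ j ∈ J, (1 : S) ⊗ₜ[P] KaehlerDifferential.D R P j =
      (1 : S) ⊗ₜ[P] KaehlerDifferential.D R P (MvPolynomial.X s) := by
    intro s
    have : (1 : S) ⊗ₜ[P] KaehlerDifferential.D R P (MvPolynomial.X s) ∈
        LinearMap.range (KaehlerDifferential.kerCotangentToTensor R P S) := by
      rw [hrange, Submodule.restrictScalars_mem, LinearMap.mem_ker]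
      exact Subsingleton.elim _ _
    obtain ⟨z, hz⟩ := this
    obtain ⟨j, rfl⟩ := Ideal.toCotangent_surjective _ z
    exact ⟨j.1, j.2, hz⟩
  choose j hjJ hjD using hj
  let Q := P ⧸ J ^ 2
  let mkQ : P →ₐ[R] Q := Ideal.Quotient.mkₐ R (J ^ 2)
  let r : P →ₐ[R] Q := MvPolynomial.aeval (fun s => mkQ (MvPolynomial.X s - j s))
  let πQ : Q →ₐ[R] S := Ideal.Quotient.liftₐ (J ^ 2) φ
    fun p hp => (Ideal.pow_le_self two_ne_zero hp : p ∈ J)
  have hπQ : ∀ p, πQ (mkQ p) = φ p := fun p => rfl
  have hr : ∀ p, πQ (r p) = φ p := by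
    intro p
    have : πQ.comp r = φ := MvPolynomial.algHom_ext fun s => by
      show πQ (r (MvPolynomial.X s)) = φ (MvPolynomial.X s)
      rw [MvPolynomial.aeval_X, hπQ, map_sub, show φ (j s) = 0 from hjJ s, sub_zero]
    exact DFunLike.congr_fun this p
  -- the derivation `r - mk`
  let N : Submodule P Q := (J.map mkQ.toRingHom).restrictScalars P
  have hNN : ∀ a ∈ N, ∀ b ∈ N, a * b = 0 := fun a ha b hb => by
    have h := Ideal.mul_mem_mul (show a ∈ J.map mkQ.toRingHom from ha) (show b ∈ J.map mkQ.toRingHom from hb)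
    rw [← Ideal.map_mul, ← pow_two, show mkQ.toRingHom = Ideal.Quotient.mk (J ^ 2) from rfl,
      Ideal.map_quotient_self, Ideal.mem_bot] at h
    exact h
  have hsub : ∀ p, r p - mkQ p ∈ N := fun p => by
    obtain ⟨p', hp'⟩ := Ideal.Quotient.mk_surjective (r p - mkQ p)
    rw [← hp']
    refine Ideal.mem_map_of_mem mkQ.toRingHom ?_
    show φ p' = 0
    rw [← hπQ p', show mkQ p' = r p - mkQ p from hp', map_sub, hr, hπQ, sub_self]
  let e : Derivation R P Q := Derivation.mk' (r.toLinearMap - mkQ.toLinearMap) fun a b => by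
    have h := hNN _ (hsub a) _ (hsub b)
    rw [Algebra.smul_def, Algebra.smul_def]
    show r (a * b) - mkQ (a * b) = mkQ a * (r b - mkQ b) + mkQ b * (r a - mkQ a)
    rw [map_mul, map_mul]
    linear_combination h
  have he : ∀ p, e p = r p - mkQ p := fun p => rfl
  have hrj : ∀ s, r (j s) = 0 := by
    intro s
    have h := der_congr (S := S) hsurj e N (fun p => hsub p)
      (fun p hp m hm => by
        rw [Algebra.smul_def]
        exact hNN _ (Ideal.mem_map_of_mem mkQ.toRingHom hp) _ hm) (hjD s)
    rw [he, he, show r (MvPolynomial.X s) = mkQ (MvPolynomial.X s - j s) from MvPolynomial.aeval_X _ s,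
      map_sub] at h
    linear_combination h
  refine ⟨r.range, inferInstance, inferInstance, πQ.comp r.range.val, ?_, ?_, fun A _ _ I hI a => ?_⟩
  · exact fun s => ⟨⟨r (MvPolynomial.X s), _, rfl⟩,
      (hr _).trans (MvPolynomial.aeval_X id s)⟩
  · rw [eq_bot_iff]
    refine (le_of_eq (pow_two _)).trans ?_
    refine Ideal.mul_le.mpr fun x hx y hy => ?_
    rw [Ideal.mem_bot]
    have hmem : ∀ z : r.range, πQ z.1 = 0 → z.1 ∈ N := fun z hz => by
      obtain ⟨p, hp⟩ := Ideal.Quotient.mk_surjective z.1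
      rw [← hp]
      refine Ideal.mem_map_of_mem mkQ.toRingHom ?_
      show φ p = 0
      rw [← hπQ p, show mkQ p = z.1 from hp, hz]
    exact Subtype.ext (hNN _ (hmem x hx) _ (hmem y hy))
  · -- lifting
    choose b hb using fun s => Ideal.Quotient.mk_surjective (a s)
    let β : P →ₐ[R] A := MvPolynomial.aeval b
    have hβ : ∀ p, Ideal.Quotient.mk I (β p) = a (φ p) := by
      intro p
      have : (Ideal.Quotient.mkₐ R I).comp β = a.comp φ := MvPolynomial.algHom_ext fun s => by
        show Ideal.Quotient.mk I (β (MvPolynomial.X s)) = a (φ (MvPolynomial.X s))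
        rw [MvPolynomial.aeval_X, hb, MvPolynomial.aeval_X]
        rfl
      exact DFunLike.congr_fun this p
    have hβJ : ∀ p ∈ J, β p ∈ I := fun p hp => by
      rw [← Ideal.Quotient.eq_zero_iff_mem, hβ, show φ p = 0 from hp, map_zero]
    have hβ2 : J ^ 2 ≤ RingHom.ker β.toRingHom := by
      rw [pow_two]
      refine Ideal.mul_le.mpr fun x hx y hy => ?_
      have h := Ideal.mul_mem_mul (hβJ x hx) (hβJ y hy)
      rw [← pow_two, hI, Ideal.mem_bot] at h
      rw [RingHom.mem_ker, map_mul]
      exact h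
    let βQ : Q →ₐ[R] A := Ideal.Quotient.liftₐ (J ^ 2) β fun p hp => hβ2 hp
    refine ⟨βQ.comp r.range.val, AlgHom.ext fun z => ?_, fun a'' ha'' => ?_⟩
    · obtain ⟨_, p, rfl⟩ := z
      show Ideal.Quotient.mk I (βQ (r p)) = a (πQ (r p))
      obtain ⟨p', hp'⟩ := Ideal.Quotient.mk_surjective (r p)
      rw [← hp']
      exact (hβ p').trans (congrArg a (hπQ p').symm)
    · let A₁ : P →ₐ[R] A := a''.comp r.rangeRestrict
      let A₂ : P →ₐ[R] A := βQ.comp r
      have hA₁ : ∀ p, Ideal.Quotient.mk I (A₁ p) = a (φ p) := fun p =>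
        (DFunLike.congr_fun ha'' (r.rangeRestrict p)).trans (congrArg a (hr p))
      have hA₂ : ∀ p, Ideal.Quotient.mk I (A₂ p) = a (φ p) := fun p => by
        show Ideal.Quotient.mk I (βQ (r p)) = _
        obtain ⟨p', hp'⟩ := Ideal.Quotient.mk_surjective (r p)
        rw [← hp']
        show Ideal.Quotient.mk I (β p') = _
        rw [hβ, ← hπQ p', show mkQ p' = r p from hp', hr]
      have hII : ∀ x ∈ I, ∀ y ∈ I, x * y = 0 := fun x hx y hy => by
        have h := Ideal.mul_mem_mul hx hy
        rwa [← pow_two, hI, Ideal.mem_bot] at h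
      have hδ : ∀ p, A₁ p - A₂ p ∈ I := fun p => by
        rw [← Ideal.Quotient.eq_zero_iff_mem, map_sub, hA₁, hA₂, sub_self]
      letI : Algebra P A := A₂.toRingHom.toAlgebra
      haveI : IsScalarTower R P A := .of_algebraMap_eq' A₂.comp_algebraMap.symm
      let δ : Derivation R P A := Derivation.mk' (A₁.toLinearMap - A₂.toLinearMap) fun x y => by
        have h := hII _ (hδ x) _ (hδ y)
        rw [Algebra.smul_def, Algebra.smul_def]
        show A₁ (x * y) - A₂ (x * y) = A₂ x * (A₁ y - A₂ y) + A₂ y * (A₁ x - A₂ x)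
        rw [map_mul, map_mul]
        linear_combination h
      have hX : ∀ s, A₁ (MvPolynomial.X s) = A₂ (MvPolynomial.X s) := by
        intro s
        have h : A₁ (j s) - A₂ (j s) = A₁ (MvPolynomial.X s) - A₂ (MvPolynomial.X s) :=
          der_congr (S := S) hsurj δ ((I.restrictScalars P)) (fun p => hδ p)
            (fun p hp m hm => by
              rw [Algebra.smul_def]
              refine hII _ ?_ _ hm
              rw [← Ideal.Quotient.eq_zero_iff_mem]
              show Ideal.Quotient.mk I (A₂ p) = 0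
              rw [hA₂, show φ p = 0 from hp, map_zero]) (hjD s)
        have h1 : A₁ (j s) = 0 := by
          show a'' (r.rangeRestrict (j s)) = 0
          rw [show r.rangeRestrict (j s) = 0 from Subtype.ext (hrj s), map_zero]
        have h2 : A₂ (j s) = 0 := by
          show βQ (r (j s)) = 0
          rw [hrj, map_zero]
        rw [h1, h2, sub_self] at h
        exact sub_eq_zero.mp h.symm
      refine AlgHom.ext fun z => ?_
      obtain ⟨_, p, rfl⟩ := z
      exact DFunLike.congr_fun (MvPolynomial.algHom_ext (f := A₁) (g := A₂) hX) p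

/-- Every derivation of a universal thickening into a module over the algebra vanishes. -/
theorem der_eq_zero {R S S' M : Type u} [CommRing R] [CommRing S] [CommRing S'] [Algebra R S]
    [Algebra R S'] [Algebra S' S] [IsScalarTower R S' S] [AddCommGroup M] [Module R M] [Module S M]
    [IsScalarTower R S M] [Module S' M] [IsScalarTower S' S M]
    (h : OmegaSh.IsUnivThickeningRing R S S' (IsScalarTower.toAlgHom R S' S)) (d : Derivation R S' M)
    (x : S') : d x = 0 := by
  obtain ⟨hs, hk, huniv⟩ := h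
  letI : Module Sᵐᵒᵖ M := Module.compHom M ((RingHom.id S).fromOpposite mul_comm)
  haveI : IsCentralScalar S M := ⟨fun s m => rfl⟩
  haveI : IsScalarTower R Sᵐᵒᵖ M := ⟨fun r s m => by
    show (r • s.unop) • m = r • (s.unop • m)
    rw [smul_assoc]⟩
  let I : Ideal (TrivSqZeroExt S M) := RingHom.ker (TrivSqZeroExt.fstHom R S M).toRingHom
  have hI : I ^ 2 = ⊥ := by
    rw [eq_bot_iff]
    refine (le_of_eq (pow_two _)).trans ?_
    refine Ideal.mul_le.mpr fun x hx y hy => ?_
    have hx' : x.fst = 0 := hx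
    have hy' : y.fst = 0 := hy
    rw [Ideal.mem_bot]
    refine TrivSqZeroExt.ext ?_ ?_
    · simp [hx']
    · simp [TrivSqZeroExt.snd_mul, hx', hy']
  let π : S' →ₐ[R] S := IsScalarTower.toAlgHom R S' S
  let a : S →ₐ[R] (TrivSqZeroExt S M) ⧸ I := (Ideal.Quotient.mkₐ R I).comp (TrivSqZeroExt.inlAlgHom R S M)
  let f₁ : S' →ₐ[R] (TrivSqZeroExt S M) := (TrivSqZeroExt.inlAlgHom R S M).comp π
  let f₂ : S' →ₐ[R] (TrivSqZeroExt S M) :=
    { toFun := fun x => TrivSqZeroExt.inl (π x) + TrivSqZeroExt.inr (d x)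
      map_one' := by simp
      map_zero' := by simp
      map_add' := fun x y => by
        simp only [map_add, TrivSqZeroExt.inl_add, TrivSqZeroExt.inr_add]
        abel
      map_mul' := fun x y => by
        refine TrivSqZeroExt.ext (by simp) ?_
        simp only [TrivSqZeroExt.snd_add, TrivSqZeroExt.snd_mul, TrivSqZeroExt.snd_inl,
          TrivSqZeroExt.snd_inr, TrivSqZeroExt.fst_add, TrivSqZeroExt.fst_inl, TrivSqZeroExt.fst_inr,
          add_zero, zero_add, op_smul_eq_smul, Derivation.leibniz]
        rw [← algebraMap_smul S x, ← algebraMap_smul S y]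
        rfl
      commutes' := fun r => by
        refine TrivSqZeroExt.ext ?_ ?_
        · simp [TrivSqZeroExt.algebraMap_eq_inl']
        · simp [TrivSqZeroExt.algebraMap_eq_inl'] }
  have h1 : (Ideal.Quotient.mkₐ R I).comp f₁ = a.comp π := AlgHom.ext fun x => rfl
  have h2 : (Ideal.Quotient.mkₐ R I).comp f₂ = a.comp π := AlgHom.ext fun x => by
    show Ideal.Quotient.mk I (f₂ x) = Ideal.Quotient.mk I (f₁ x)
    rw [Ideal.Quotient.eq]
    show TrivSqZeroExt.fst (f₂ x - f₁ x) = 0
    simp [f₁, f₂]
  have := congrArg (fun f : S' →ₐ[R] (TrivSqZeroExt S M) => (f x).snd) ((huniv (TrivSqZeroExt S M) I hI a).unique h2 h1)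
  simpa [f₁, f₂] using this

/-- The underlying algebra of a universal thickening is formally unramified. -/
theorem formallyUnramified {R S S' : Type u} [CommRing R] [CommRing S] [CommRing S'] [Algebra R S]
    [Algebra R S'] (π : S' →ₐ[R] S) (h : OmegaSh.IsUnivThickeningRing R S S' π) :
    Algebra.FormallyUnramified R S' := by
  letI : Algebra S' S := π.toRingHom.toAlgebra
  haveI : IsScalarTower R S' S := .of_algebraMap_eq' π.comp_algebraMap.symm
  have hπ : π = IsScalarTower.toAlgHom R S' S := AlgHom.ext fun x => rfl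
  obtain ⟨hs, hk, -⟩ := id h
  rw [hπ] at h
  let d : Derivation R S' (S ⊗[S'] Ω[S'⁄R]) :=
    ((TensorProduct.mk S' S Ω[S'⁄R]) 1).compDer (KaehlerDifferential.D R S')
  have hD : ∀ x, KaehlerDifferential.D R S' x ∈
      RingHom.ker π.toRingHom • (⊤ : Submodule S' Ω[S'⁄R]) :=
    fun x => mem_smul_top_of_one_tmul_eq_zero hs (der_eq_zero h d x)
  have htop : (⊤ : Submodule S' Ω[S'⁄R]) ≤ RingHom.ker π.toRingHom • ⊤ := by
    conv_lhs => rw [← KaehlerDifferential.span_range_derivation]
    exact Submodule.span_le.mpr fun _ ⟨x, hx⟩ => hx ▸ hD x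
  refine ⟨(Submodule.subsingleton_iff S').mp ?_⟩
  refine subsingleton_of_bot_eq_top (le_antisymm bot_le ?_)
  have h2' : RingHom.ker π.toRingHom • (⊤ : Submodule S' Ω[S'⁄R]) = ⊤ := top_le_iff.mp htop
  calc (⊤ : Submodule S' Ω[S'⁄R]) = RingHom.ker π.toRingHom • (RingHom.ker π.toRingHom • ⊤) := by
        rw [h2', h2']
    _ ≤ ⊥ := by rw [← mul_smul, ← pow_two, hk, Submodule.bot_smul]

end GrothLib.UnivThick
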