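import Groth.Agent.Lib.UnivThick.Affine
import Groth.Agent.Lib.UnivThick.Ring

/-!
# Existence of universal first order thickenings of schemes
-/

universe u

set_option maxHeartbeats 800000

namespace GrothLib.UnivThick

open AlgebraicGeometry CategoryTheory Limits

variable {Z X : Scheme.{u}}

/-- Composites of formally unramified morphisms, as an instance for use here. -/
theorem fu_comp {A B C : Scheme.{u}} (f : A ⟶ B) (g : B ⟶ C) (hf : FormallyUnramified f)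
    (hg : FormallyUnramified g) : FormallyUnramified (f ≫ g) :=
  MorphismProperty.comp_mem @FormallyUnramified f g hf hg

theorem exists_univ_affine {V U : Scheme.{u}} [IsAffine V] [IsAffine U] (g : V ⟶ U)
    [FormallyUnramified g] : ∃ (P : Scheme.{u}) (i : V ⟶ P) (g' : P ⟶ U),
      OmegaSh.IsUnivThickening g i g' ∧ FormallyUnramified g' := by
  let φ := g.appTop
  have hφ : φ.hom.FormallyUnramified := HasRingHomProperty.appTop @FormallyUnramified g inferInstance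
  algebraize [φ.hom]
  obtain ⟨S', _, _, π, hπ⟩ := exists_isUnivThickeningRing Γ(U, ⊤) Γ(V, ⊤)
  haveI : FormallyUnramified (Spec.map (CommRingCat.ofHom (algebraMap Γ(U, ⊤) S'))) :=
    (HasRingHomProperty.Spec_iff (P := @FormallyUnramified)).mpr
      (RingHom.formallyUnramified_algebraMap.mpr (formallyUnramified π hπ))
  have h1 := univ_comp_openImmersion
    (univ_iso_source (univ_spec _ _ _ π hπ) V.isoSpec) U.isoSpec.inv
  have h2 : (V.isoSpec.hom ≫ Spec.map (CommRingCat.ofHom (algebraMap Γ(U, ⊤) Γ(V, ⊤)))) ≫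
      U.isoSpec.inv = g := by
    rw [show CommRingCat.ofHom (algebraMap Γ(U, ⊤) Γ(V, ⊤)) = g.appTop from rfl,
      Scheme.isoSpec_hom_naturality, Category.assoc, Iso.hom_inv_id, Category.comp_id]
  rw [h2] at h1
  exact ⟨_, _, _, h1, fu_comp _ _ inferInstance inferInstance⟩

/-- The opens on which the construction is affine. -/
abbrev Good (h : Z ⟶ X) : Type u :=
  {V : Z.Opens // IsAffineOpen V ∧ ∃ U : X.Opens, IsAffineOpen U ∧ V ≤ h ⁻¹ᵁ U}

theorem exists_good_le (h : Z ⟶ X) {O : Z.Opens} {z : Z} (hz : z ∈ O) :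
    ∃ V : Good h, z ∈ V.1 ∧ V.1 ≤ O := by
  obtain ⟨_, ⟨U, hU, rfl⟩, hzU, -⟩ :=
    X.isBasis_affineOpens.exists_subset_of_mem_open (Set.mem_univ (h z)) isOpen_univ
  obtain ⟨_, ⟨V, hV, rfl⟩, hzV, hle⟩ :=
    Z.isBasis_affineOpens.exists_subset_of_mem_open
      (show z ∈ (O : Set Z) ∩ h ⁻¹' U from ⟨hz, hzU⟩) (O.2.inter (U.2.preimage h.continuous))
  exact ⟨⟨V, hV, U, hU, fun y hy => (hle hy).2⟩, hzV, fun y hy => (hle hy).1⟩

theorem exists_univ_good (h : Z ⟶ X) [FormallyUnramified h] (V : Good h) :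
    ∃ (P : Scheme.{u}) (i : V.1.toScheme ⟶ P) (g : P ⟶ X),
      OmegaSh.IsUnivThickening (V.1.ι ≫ h) i g ∧ FormallyUnramified g := by
  obtain ⟨V, hV, U, hU, e⟩ := V
  haveI : IsAffine V.toScheme := hV
  haveI : IsAffine U.toScheme := hU
  haveI : FormallyUnramified (h.resLE U V e ≫ U.ι) := by
    rw [Scheme.Hom.resLE_comp_ι]; exact fu_comp _ _ inferInstance inferInstance
  haveI := FormallyUnramified.of_comp (h.resLE U V e) U.ι
  obtain ⟨P, i, g, hu, hg⟩ := exists_univ_affine (h.resLE U V e)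
  have := univ_comp_openImmersion hu U.ι
  rw [Scheme.Hom.resLE_comp_ι] at this
  exact ⟨P, i, g ≫ U.ι, this, fu_comp _ _ hg inferInstance⟩

/-- The map between local thickenings is an open immersion and the square is cartesian. -/
theorem univ_hom_isOpenImmersion {V₁ V₂ P₁ P₂ : Scheme.{u}} {h₁ : V₁ ⟶ X} {i₁ : V₁ ⟶ P₁}
    {g₁ : P₁ ⟶ X} {h₂ : V₂ ⟶ X} {i₂ : V₂ ⟶ P₂} {g₂ : P₂ ⟶ X}
    (hu₁ : OmegaSh.IsUnivThickening h₁ i₁ g₁) (hu₂ : OmegaSh.IsUnivThickening h₂ i₂ g₂)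
    (r : V₁ ⟶ V₂) [IsOpenImmersion r] (hr : r ≫ h₂ = h₁) (m : P₁ ⟶ P₂) (hm : i₁ ≫ m = r ≫ i₂)
    (hmg : m ≫ g₂ = g₁) : IsOpenImmersion m ∧ IsPullback r i₁ i₂ m := by
  obtain ⟨O, iW, H⟩ := exists_isPullback_opens hu₂.1 r
  have hO := univ_of_isPullback hu₂ H
  rw [hr] at hO
  obtain ⟨e, he, heg⟩ := univ_iso hu₁ hO
  have : m = e.hom ≫ O.ι := (univ_hom hu₁ hu₂ r hr).unique ⟨hm, hmg⟩
    ⟨by rw [reassoc_of% he, H.w], by rw [Category.assoc, heg]⟩
  subst this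
  exact ⟨inferInstance, H.of_iso (Iso.refl _) (Iso.refl _) e.symm (Iso.refl _)
    (by simp) (by simp [← he]) (by simp) (by simp)⟩

theorem range_eq_of_comp {V₁ V₂ P₁ P₂ : Scheme.{u}} {i₁ : V₁ ⟶ P₁} {i₂ : V₂ ⟶ P₂} [Surjective i₁]
    {r : V₁ ⟶ V₂} {m : P₁ ⟶ P₂} (hm : i₁ ≫ m = r ≫ i₂) (p : P₁) :
    ∃ v, i₁ v = p ∧ m p = i₂ (r v) := by
  obtain ⟨v, rfl⟩ := i₁.surjective p
  exact ⟨v, rfl, congr($hm v)⟩

/-- Every formally unramified morphism has a universal first order thickening. -/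
theorem exists_univThickening (h : Z ⟶ X) [FormallyUnramified h] :
    ∃ (Z' : Scheme.{u}) (i : Z ⟶ Z') (h' : Z' ⟶ X), OmegaSh.IsUnivThickening h i h' := by
  choose P i g hu hg using exists_univ_good h
  have hex : ∀ {a b : Good h} (f : a ⟶ b), ∃! m : P a ⟶ P b,
      i a ≫ m = Z.homOfLE (leOfHom f) ≫ i b ∧ m ≫ g b = g a := fun {a b} f =>
    univ_hom (hu a) (hu b) _ (Scheme.homOfLE_ι_assoc _ _ _)
  let M : ∀ {a b : Good h}, (a ⟶ b) → (P a ⟶ P b) := fun f => (hex f).choose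
  have hM : ∀ {a b : Good h} (f : a ⟶ b),
      i a ≫ M f = Z.homOfLE (leOfHom f) ≫ i b ∧ M f ≫ g b = g a := fun f => (hex f).choose_spec.1
  let F : Good h ⥤ Scheme.{u} :=
    { obj := P
      map := fun f => M f
      map_id := fun a => (hex (𝟙 a)).unique (hM (𝟙 a)) ⟨by simp, by simp⟩
      map_comp := fun {a b c} f f' => (hex (f ≫ f')).unique (hM (f ≫ f'))
        ⟨by rw [reassoc_of% (hM f).1, (hM f').1, Scheme.homOfLE_homOfLE_assoc],
          by rw [Category.assoc, (hM f').2, (hM f).2]⟩ }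
  haveI hopen : ∀ {a b : Good h} (f : a ⟶ b), IsOpenImmersion (F.map f) := fun {a b} f =>
    (univ_hom_isOpenImmersion (hu a) (hu b) _ (Scheme.homOfLE_ι_assoc _ _ _) _ (hM f).1 (hM f).2).1
  haveI hsurj : ∀ a, Surjective (i a) := fun a => fot_surjective (hu a).1
  have hinj : ∀ a, Function.Injective (i a) := fun a => injective_of_fot (hu a).1
  haveI : (F ⋙ Scheme.forget).IsLocallyDirected := ⟨fun {a b c} f₁ f₂ y₁ y₂ (e : F.map f₁ y₁ = F.map f₂ y₂) => by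
    obtain ⟨v₁, rfl, h₁⟩ := range_eq_of_comp (hM f₁).1 y₁
    obtain ⟨v₂, rfl, h₂⟩ := range_eq_of_comp (hM f₂).1 y₂
    have hv : v₁.1 = v₂.1 := by
      have := congrArg Subtype.val (hinj c (h₁.symm.trans (e.trans h₂)))
      exact (Scheme.homOfLE_apply _ _).symm.trans (this.trans (Scheme.homOfLE_apply _ _))
    obtain ⟨l, hl, hle⟩ := exists_good_le h (O := a.1 ⊓ b.1) (z := v₁.1) ⟨v₁.2, hv ▸ v₂.2⟩
    have ha : l ≤ a := hle.trans inf_le_left
    have hb : l ≤ b := hle.trans inf_le_right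
    refine ⟨l, homOfLE ha, homOfLE hb, i l ⟨v₁.1, hl⟩, ?_, ?_⟩
    · show (i l ≫ M (homOfLE ha)) ⟨v₁.1, hl⟩ = i a v₁
      rw [(hM (homOfLE ha)).1]
      exact congrArg (i a) (Subtype.ext (Scheme.homOfLE_apply ha _))
    · show (i l ≫ M (homOfLE hb)) ⟨v₁.1, hl⟩ = i b v₂
      rw [(hM (homOfLE hb)).1]
      exact congrArg (i b) (Subtype.ext ((Scheme.homOfLE_apply hb _).trans hv))⟩
  have hcov : ∀ z : Z, ∃ V : Good h, z ∈ V.1 := fun z =>
    (exists_good_le h (O := ⊤) (z := z) trivial).imp fun V hV => hV.1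
  choose V hV using hcov
  let 𝒰 := Z.openCoverOfIsOpenCover (fun z => (V z).1)
    (top_unique fun z _ => TopologicalSpace.Opens.mem_iSup.mpr ⟨z, hV z⟩)
  have hw : ∀ {l a : Good h} (hla : l ≤ a),
      Z.homOfLE hla ≫ i a ≫ colimit.ι F a = i l ≫ colimit.ι F l := by
    intro l a hla
    rw [← colimit.w F (homOfLE hla)]
    exact ((reassoc_of% (hM (homOfLE hla)).1) _).symm
  have hcompat : ∀ a b : Good h, pullback.fst a.1.ι b.1.ι ≫ i a ≫ colimit.ι F a =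
      pullback.snd a.1.ι b.1.ι ≫ i b ≫ colimit.ι F b := by
    intro a b
    have key : ∀ p : ↥(pullback a.1.ι b.1.ι), ∃ l : Good h, l ≤ a ∧ l ≤ b ∧
        p ∈ (pullback.fst a.1.ι b.1.ι ≫ a.1.ι) ⁻¹ᵁ l.1 := fun p => by
      obtain ⟨l, hl, hle⟩ := exists_good_le h (O := a.1 ⊓ b.1)
        (z := (pullback.fst a.1.ι b.1.ι ≫ a.1.ι) p) ⟨(pullback.fst a.1.ι b.1.ι p).2, by
          rw [pullback.condition]; exact (pullback.snd a.1.ι b.1.ι p).2⟩
      exact ⟨l, hle.trans inf_le_left, hle.trans inf_le_right, hl⟩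
    choose l ha hb hp using key
    refine Scheme.Cover.hom_ext ((pullback a.1.ι b.1.ι).openCoverOfIsOpenCover
      (fun p => (pullback.fst a.1.ι b.1.ι ≫ a.1.ι) ⁻¹ᵁ (l p).1)
      (top_unique fun p _ => TopologicalSpace.Opens.mem_iSup.mpr ⟨p, hp p⟩)) _ _ fun p => ?_
    let q := (pullback.fst a.1.ι b.1.ι ≫ a.1.ι) ∣_ (l p).1
    show (_ : Scheme.Opens _).ι ≫ _ = (_ : Scheme.Opens _).ι ≫ _
    have e1 : ((pullback.fst a.1.ι b.1.ι ≫ a.1.ι) ⁻¹ᵁ (l p).1).ι ≫ pullback.fst a.1.ι b.1.ι =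
        q ≫ Z.homOfLE (ha p) := by
      rw [← cancel_mono a.1.ι, Category.assoc, Category.assoc, Scheme.homOfLE_ι, morphismRestrict_ι]
    have e2 : ((pullback.fst a.1.ι b.1.ι ≫ a.1.ι) ⁻¹ᵁ (l p).1).ι ≫ pullback.snd a.1.ι b.1.ι =
        q ≫ Z.homOfLE (hb p) := by
      rw [← cancel_mono b.1.ι, Category.assoc, Category.assoc, Scheme.homOfLE_ι, morphismRestrict_ι,
        pullback.condition]
    rw [reassoc_of% e1, reassoc_of% e2, hw, hw]
  let j : Z ⟶ colimit F := 𝒰.glueMorphisms (fun z => i (V z) ≫ colimit.ι F (V z))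
    fun z z' => hcompat (V z) (V z')
  have hj : ∀ z, (V z).1.ι ≫ j = i (V z) ≫ colimit.ι F (V z) := fun z =>
    Scheme.Cover.ι_glueMorphisms 𝒰 _ _ z
  let h' : colimit F ⟶ X := colimit.desc F ⟨X, ⟨g, fun a b f => by simpa using! (hM f).2⟩⟩
  have hh' : ∀ a, colimit.ι F a ≫ h' = g a := fun a => colimit.ι_desc _ a
  refine ⟨colimit F, j, h', univ_of_local h j h' fun x => ?_⟩
  obtain ⟨a, p, rfl⟩ := Scheme.IsLocallyDirected.ι_jointly_surjective F x
  have hwa : a.1.ι ≫ j = i a ≫ colimit.ι F a := by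
    refine Scheme.Cover.hom_ext (a.1.toScheme.openCoverOfIsOpenCover
      (fun v : a.1.toScheme => a.1.ι ⁻¹ᵁ (V v.1).1)
      (top_unique fun v _ => TopologicalSpace.Opens.mem_iSup.mpr ⟨v, hV v.1⟩)) _ _ fun v => ?_
    show (a.1.ι ⁻¹ᵁ (V v.1).1).ι ≫ a.1.ι ≫ j = (a.1.ι ⁻¹ᵁ (V v.1).1).ι ≫ i a ≫ colimit.ι F a
    rw [← morphismRestrict_ι_assoc, hj]
    let k : (a.1.ι ⁻¹ᵁ (V v.1).1).toScheme ⟶ pullback a.1.ι (V v.1).1.ι :=
      pullback.lift (a.1.ι ⁻¹ᵁ (V v.1).1).ι (a.1.ι ∣_ (V v.1).1) (morphismRestrict_ι _ _).symm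
    have := congrArg (k ≫ ·) (hcompat a (V v.1))
    simp only [k, pullback.lift_fst_assoc, pullback.lift_snd_assoc] at this
    exact this.symm
  refine ⟨_, _, a.1.ι, i a, colimit.ι F a, ?_, inferInstance, ⟨p, rfl⟩, ?_⟩
  · refine (IsOpenImmersion.isPullback (i a) a.1.ι (colimit.ι F a) j hwa ?_).flip
    ext z
    show j z ∈ Set.range (colimit.ι F a) ↔ z ∈ Set.range a.1.ι
    rw [Scheme.Opens.range_ι]
    constructor
    · rintro ⟨y, hy⟩
      obtain ⟨v, rfl⟩ := (i a).surjective y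
      have h1 : j z = colimit.ι F (V z) (i (V z) ⟨z, hV z⟩) := congr($(hj z) ⟨z, hV z⟩)
      obtain ⟨k, fa, fb, w, hwa', hwb⟩ :=
        (Scheme.IsLocallyDirected.ι_eq_ι_iff F).mp (hy.trans h1)
      obtain ⟨w₁, rfl, hw₁⟩ := range_eq_of_comp (hM fb).1 w
      have := congrArg Subtype.val (hinj _ (hw₁.symm.trans hwb))
      have h3 : w₁.1 = z := (Scheme.homOfLE_apply (leOfHom fb) w₁).symm.trans this
      exact h3 ▸ (leOfHom fa) w₁.2
    · intro hz
      exact ⟨i a ⟨z, hz⟩, congr($hwa ⟨z, hz⟩).symm⟩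
  · rw [hh']
    exact hu a

/-- A universal thickening is formally unramified over the base. -/
theorem formallyUnramified_univThickening {Z' : Scheme.{u}} (h : Z ⟶ X) [FormallyUnramified h]
    (i : Z ⟶ Z') (h' : Z' ⟶ X) (hu : OmegaSh.IsUnivThickening h i h') : FormallyUnramified h' := by
  have key : ∀ x : Z', ∃ O : Z'.Opens, x ∈ O ∧ FormallyUnramified (O.ι ≫ h') := by
    intro x
    haveI := fot_surjective hu.1
    obtain ⟨z, rfl⟩ := i.surjective x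
    obtain ⟨V, hzV, -⟩ := exists_good_le h (O := ⊤) (z := z) trivial
    obtain ⟨P, iV, g, huV, hg⟩ := exists_univ_good h V
    obtain ⟨O, iW, H⟩ := exists_isPullback_opens hu.1 V.1.ι
    obtain ⟨e, -, heg⟩ := univ_iso (univ_of_isPullback hu H) huV
    refine ⟨O, ?_, ?_⟩
    · have := congr($H.w ⟨z, hzV⟩)
      rw [show i z = (iW ≫ O.ι) ⟨z, hzV⟩ from this]
      exact (iW ⟨z, hzV⟩).2
    · rw [← heg]
      exact fu_comp _ _ inferInstance hg
  choose O hxO hO using key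
  rw [IsZariskiLocalAtSource.iff_of_openCover (P := @FormallyUnramified)
    (Z'.openCoverOfIsOpenCover O (top_unique fun x _ => TopologicalSpace.Opens.mem_iSup.mpr ⟨x, hxO x⟩))]
  exact fun x => hO x

end GrothLib.UnivThick
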