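import Groth.Agent.Lib.UnivThick.Univ
import Groth.Agent.Lib.Misc6.Small

/-!
# Consequences of universality
-/

universe u

set_option maxHeartbeats 800000

namespace GrothLib.UnivThick

open AlgebraicGeometry CategoryTheory Limits

theorem univ_resLE {Z Z' X : Scheme.{u}} {h : Z ⟶ X} {i : Z ⟶ Z'} {h' : Z' ⟶ X}
    (hu : OmegaSh.IsUnivThickening h i h') (V : Z.Opens) (U : X.Opens) (hVU : V ≤ h ⁻¹ᵁ U)
    (V' : Z'.Opens) (hV' : i ⁻¹ᵁ V' = V) (hV'U : V' ≤ h' ⁻¹ᵁ U) :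
    OmegaSh.IsUnivThickening (h.resLE U V hVU) (i.resLE V' V hV'.ge) (h'.resLE U V' hV'U) := by
  subst hV'
  refine univ_of_comp_mono U.ι ?_
  rw [Scheme.Hom.resLE_comp_ι, Scheme.Hom.resLE_comp_ι]
  refine univ_of_isPullback hu ?_
  rw [Scheme.Hom.resLE_eq_morphismRestrict]
  exact (isPullback_morphismRestrict i V').flip

/-- Square zero kernels descend through closed immersions. -/
theorem ker_mul_self_eq_bot {Z Q W : Scheme.{u}} (e : Z ⟶ Q) (s : Q ⟶ W) [IsClosedImmersion e]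
    [IsClosedImmersion s] (h : (e ≫ s).ker * (e ≫ s).ker ≤ s.ker) : e.ker * e.ker = ⊥ := by
  let U : W.affineOpens → Q.affineOpens := fun A => ⟨s ⁻¹ᵁ A.1, A.2.preimage s⟩
  refine Scheme.IdealSheafData.ext_of_iSup_eq_top U (top_unique fun q _ => ?_) fun A => ?_
  · obtain ⟨_, ⟨A, hA, rfl⟩, hqA, -⟩ :=
      W.isBasis_affineOpens.exists_subset_of_mem_open (Set.mem_univ (s q)) isOpen_univ
    exact TopologicalSpace.Opens.mem_iSup.mpr ⟨⟨A, hA⟩, hqA⟩
  rw [Scheme.IdealSheafData.ideal_bot, Pi.bot_apply, Scheme.IdealSheafData.ideal_mul, Pi.mul_apply,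
    eq_bot_iff, Ideal.mul_le]
  intro x hx y hy
  rw [Ideal.mem_bot]
  obtain ⟨x, rfl⟩ := s.app_surjective A.1 A.2 x
  obtain ⟨y, rfl⟩ := s.app_surjective A.1 A.2 y
  rw [Scheme.Hom.ker_apply, RingHom.mem_ker] at hx hy
  have hx' : x ∈ (e ≫ s).ker.ideal A := by
    rw [Scheme.Hom.ker_apply, RingHom.mem_ker, Scheme.Hom.comp_app]; exact hx
  have hy' : y ∈ (e ≫ s).ker.ideal A := by
    rw [Scheme.Hom.ker_apply, RingHom.mem_ker, Scheme.Hom.comp_app]; exact hy
  have hxy : x * y ∈ ((e ≫ s).ker * (e ≫ s).ker).ideal A := Ideal.mul_mem_mul hx' hy'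
  have := h A hxy
  rw [Scheme.Hom.ker_apply, RingHom.mem_ker, map_mul] at this
  exact this

theorem univ_baseChange {Z X W Y W' : Scheme.{u}} {h : Z ⟶ X} {f : Z ⟶ W} {g : X ⟶ Y} {h' : W ⟶ Y}
    (hc : IsPullback h f g h') {j : W ⟶ W'} {k : W' ⟶ Y} (hu : OmegaSh.IsUnivThickening h' j k)
    (w : h ≫ g = (f ≫ j) ≫ k) :
    OmegaSh.IsUnivThickening h (pullback.lift h (f ≫ j) w) (pullback.fst g k) := by
  obtain ⟨hj, hh, huniv⟩ := hu
  have hsq : IsPullback f (pullback.lift h (f ≫ j) w) j (pullback.snd g k) := by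
    refine IsPullback.of_bot (h₃₁ := g) (v₂₁ := pullback.fst g k) (v₂₂ := k) ?_
      (pullback.lift_snd _ _ _).symm (IsPullback.of_hasPullback g k).flip
    rw [pullback.lift_fst, hh]
    exact hc.flip
  refine ⟨fot_of_isPullback hsq hj, pullback.lift_fst _ _ _, fun T T' t b a ht ha => ?_⟩
  obtain ⟨l, ⟨hl, hlb⟩, hl'⟩ := huniv T T' t (b ≫ g) (a ≫ f) ht
    (by rw [reassoc_of% ha, hc.w, Category.assoc])
  refine ⟨pullback.lift b l hlb.symm, ⟨?_, pullback.lift_fst _ _ _⟩, fun n ⟨hn, hnb⟩ => ?_⟩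
  · apply pullback.hom_ext
    · rw [Category.assoc, Category.assoc, pullback.lift_fst, pullback.lift_fst, ha]
    · rw [Category.assoc, Category.assoc, pullback.lift_snd, pullback.lift_snd, hl, Category.assoc]
  · apply pullback.hom_ext
    · rw [hnb, pullback.lift_fst]
    · rw [pullback.lift_snd]
      exact hl' _ ⟨by rw [reassoc_of% hn, pullback.lift_snd, Category.assoc],
        by rw [Category.assoc, ← pullback.condition, reassoc_of% hnb]⟩

theorem univ_of_comp {Z Y X Z' Y' : Scheme.{u}} {a : Z ⟶ Y} {b : Y ⟶ X} {i : Z ⟶ Z'} {c : Z' ⟶ X}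
    (hZ : OmegaSh.IsUnivThickening (a ≫ b) i c) {j : Y ⟶ Y'} {d : Y' ⟶ X}
    (hY : OmegaSh.IsUnivThickening b j d) :
    ∃ (m : Z' ⟶ Y') (hm : i ≫ m = a ≫ j), m ≫ d = c ∧
      OmegaSh.IsUnivThickening a (pullback.lift a i hm.symm) (pullback.fst j m) := by
  obtain ⟨m, ⟨hm, hmd⟩, -⟩ := hY.2.2 _ _ i c a hZ.1 hZ.2.1
  refine ⟨m, hm, hmd, ?_⟩
  haveI := fot_isClosedImmersion hY.1
  haveI := fot_isClosedImmersion hZ.1
  haveI := fot_surjective hZ.1
  let e := pullback.lift a i hm.symm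
  have he : e ≫ pullback.snd j m = i := pullback.lift_snd _ _ _
  haveI : IsClosedImmersion (e ≫ pullback.snd j m) := by rw [he]; infer_instance
  haveI : IsClosedImmersion e := .of_comp_isClosedImmersion e (pullback.snd j m)
  refine ⟨⟨⟨inferInstance, ⟨fun q => ?_⟩⟩, ?_⟩, pullback.lift_fst _ _ _, fun T T' t b' a' ht w => ?_⟩
  · obtain ⟨z, hz⟩ := i.surjective (pullback.snd j m q)
    exact ⟨z, (pullback.snd j m).isClosedEmbedding.injective (congr($he z).trans hz)⟩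
  · refine ker_mul_self_eq_bot e (pullback.snd j m) ?_
    rw [he, hZ.1.2]
    exact bot_le
  obtain ⟨l, ⟨hl, hlc⟩, hl'⟩ := hZ.2.2 T T' t (b' ≫ b) a' ht (by rw [reassoc_of% w])
  have hlm : b' ≫ j = l ≫ m :=
    (hY.2.2 T T' t (b' ≫ b) (a' ≫ a) ht (by rw [reassoc_of% w, Category.assoc])).unique
      ⟨by rw [reassoc_of% w, Category.assoc], by rw [Category.assoc, hY.2.1]⟩
      ⟨by rw [reassoc_of% hl, hm, Category.assoc], by rw [Category.assoc, hmd, hlc]⟩
  refine ⟨pullback.lift b' l hlm, ⟨?_, pullback.lift_fst _ _ _⟩, fun n ⟨hn, hnb⟩ => ?_⟩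
  · apply pullback.hom_ext
    · rw [Category.assoc, Category.assoc, pullback.lift_fst, pullback.lift_fst, w]
    · rw [Category.assoc, Category.assoc, pullback.lift_snd, pullback.lift_snd, hl]
  · apply pullback.hom_ext
    · rw [hnb, pullback.lift_fst]
    · rw [pullback.lift_snd]
      refine hl' _ ⟨by rw [reassoc_of% hn, pullback.lift_snd], ?_⟩
      rw [← hmd, Category.assoc, ← pullback.condition_assoc, hY.2.1, reassoc_of% hnb]

theorem univ_immersion {X : Scheme.{u}} (U : X.Opens) (I : (U : Scheme.{u}).IdealSheafData)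
    (h : I ^ 2 ≤ I) :
    OmegaSh.IsUnivThickening (I.subschemeι ≫ U.ι) (Scheme.IdealSheafData.inclusion h)
      ((I ^ 2).subschemeι ≫ U.ι) := by
  refine univ_comp_openImmersion ?_ U.ι
  let e := Scheme.IdealSheafData.inclusion h
  have he : e ≫ (I ^ 2).subschemeι = I.subschemeι := Scheme.IdealSheafData.inclusion_subschemeι h
  haveI : IsClosedImmersion (e ≫ (I ^ 2).subschemeι) := by rw [he]; infer_instance
  haveI : IsClosedImmersion e := .of_comp_isClosedImmersion e (I ^ 2).subschemeι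
  refine ⟨⟨⟨inferInstance, ⟨fun q => ?_⟩⟩, ?_⟩, he, fun T T' t b a ht w => ?_⟩
  · have : (I ^ 2).subschemeι q ∈ Set.range I.subschemeι := by
      rw [Scheme.IdealSheafData.range_subschemeι, ← Scheme.IdealSheafData.support_pow I 2 two_ne_zero,
        ← Scheme.IdealSheafData.range_subschemeι]
      exact ⟨q, rfl⟩
    obtain ⟨z, hz⟩ := this
    exact ⟨z, (I ^ 2).subschemeι.isClosedEmbedding.injective (congr($he z).trans hz)⟩
  · refine ker_mul_self_eq_bot e (I ^ 2).subschemeι ?_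
    rw [he, Scheme.IdealSheafData.ker_subschemeι, Scheme.IdealSheafData.ker_subschemeι, pow_two]
  haveI := fot_isClosedImmersion ht
  have hI := GrothLib.Misc6.ker_comp_sq_le t ht.2 b (I := I) (by
    rw [w]
    exact (le_of_eq I.ker_subschemeι.symm).trans (Scheme.Hom.le_ker_comp a I.subschemeι))
  have hl : IsClosedImmersion.lift (I ^ 2).subschemeι b
      (by rw [Scheme.IdealSheafData.ker_subschemeι]; exact hI) ≫ (I ^ 2).subschemeι = b :=
    IsClosedImmersion.lift_fac _ _ _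
  refine ⟨_, ⟨?_, hl⟩, fun n ⟨_, hnb⟩ => (cancel_mono (I ^ 2).subschemeι).mp (hnb.trans hl.symm)⟩
  rw [← cancel_mono (I ^ 2).subschemeι, Category.assoc, hl, Category.assoc, he, w]

end GrothLib.UnivThick
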