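import Groth.Agent.Lib.UnivThick.Ring

/-!
# Derivations of the base extend to a universal thickening
-/

universe u

namespace GrothLib.UnivThick

theorem exists_extension {A B B' M : Type u} [CommRing A] [CommRing B] [CommRing B'] [Algebra A B]
    [Algebra A B'] [Algebra B' B] [IsScalarTower A B' B] [AddCommGroup M] [Module B M] [Module B' M]
    [IsScalarTower B' B M] [Module A M] [IsScalarTower A B' M]
    (_hs : Function.Surjective (IsScalarTower.toAlgHom A B' B))
    (huniv : ∀ (C : Type u) [CommRing C] [Algebra A C] (I : Ideal C), I ^ 2 = ⊥ →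
      ∀ a : B →ₐ[A] C ⧸ I, ∃! a' : B' →ₐ[A] C,
        (Ideal.Quotient.mkₐ A I).comp a' = a.comp (IsScalarTower.toAlgHom A B' B))
    (d₀ : A → M) (hadd : ∀ x y, d₀ (x + y) = d₀ x + d₀ y)
    (hmul : ∀ x y, d₀ (x * y) = x • d₀ y + y • d₀ x) :
    ∃ d : B' → M, (∀ x y, d (x + y) = d x + d y) ∧ (∀ x y, d (x * y) = x • d y + y • d x) ∧
      ∀ a : A, d (algebraMap A B' a) = d₀ a := by
  letI : Module Bᵐᵒᵖ M := Module.compHom M ((RingHom.id B).fromOpposite mul_comm)
  haveI : IsCentralScalar B M := ⟨fun s m => rfl⟩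
  have hA : ∀ (a : A) (m : M), algebraMap A B a • m = a • m := fun a m => by
    rw [IsScalarTower.algebraMap_apply A B' B, algebraMap_smul, algebraMap_smul]
  have hd0 : d₀ 0 = 0 := by simpa using hadd 0 0
  have hd1 : d₀ 1 = 0 := by simpa using hmul 1 1
  let ι : A →+* TrivSqZeroExt B M :=
    { toFun := fun a => TrivSqZeroExt.inl (algebraMap A B a) + TrivSqZeroExt.inr (d₀ a)
      map_one' := by simp [hd1]
      map_zero' := by simp [hd0]
      map_add' := fun x y => by
        simp only [map_add, hadd, TrivSqZeroExt.inl_add, TrivSqZeroExt.inr_add]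
        abel
      map_mul' := fun x y => by
        refine TrivSqZeroExt.ext (by simp) ?_
        simp [hmul, hA] }
  letI : Algebra A (TrivSqZeroExt B M) := ι.toAlgebra
  let I : Ideal (TrivSqZeroExt B M) := RingHom.ker (TrivSqZeroExt.fstHom B B M).toRingHom
  have hI : I ^ 2 = ⊥ := by
    rw [eq_bot_iff]
    refine (le_of_eq (pow_two _)).trans ?_
    refine Ideal.mul_le.mpr fun x hx y hy => ?_
    have hx' : x.fst = 0 := hx
    have hy' : y.fst = 0 := hy
    rw [Ideal.mem_bot]
    refine TrivSqZeroExt.ext ?_ ?_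
    · simp [hx']
    · simp [TrivSqZeroExt.snd_mul, hx', hy']
  let a₀ : B →ₐ[A] TrivSqZeroExt B M ⧸ I :=
    { (Ideal.Quotient.mk I).comp (TrivSqZeroExt.inlHom B M) with
      commutes' := fun a => by
        show Ideal.Quotient.mk I (TrivSqZeroExt.inl (algebraMap A B a)) = Ideal.Quotient.mk I (ι a)
        rw [Ideal.Quotient.eq]
        show TrivSqZeroExt.fst (_ - ι a) = 0
        simp [ι] }
  obtain ⟨g, hg, -⟩ := huniv (TrivSqZeroExt B M) I hI a₀
  have hfst : ∀ x, (g x).fst = algebraMap B' B x := fun x => by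
    have h1 : Ideal.Quotient.mk I (g x) = Ideal.Quotient.mk I (TrivSqZeroExt.inl (algebraMap B' B x)) :=
      DFunLike.congr_fun hg x
    rw [Ideal.Quotient.eq] at h1
    have h2 : TrivSqZeroExt.fst (g x - TrivSqZeroExt.inl (algebraMap B' B x)) = 0 := h1
    simpa [sub_eq_zero] using h2
  refine ⟨fun x => (g x).snd, fun x y => by simp, fun x y => ?_, fun a => ?_⟩
  · simp only [map_mul, TrivSqZeroExt.snd_mul, hfst, op_smul_eq_smul, algebraMap_smul]
  · show (g (algebraMap A B' a)).snd = d₀ a
    rw [g.commutes]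
    show (ι a).snd = d₀ a
    simp [ι]

end GrothLib.UnivThick
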