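import Groth.Agent.Lib.UnivThick.Ring
import Mathlib.RingTheory.Localization.Basic
import Mathlib.RingTheory.Unramified.Basic

/-!
# Universal thickenings and localization
-/

universe u

namespace GrothLib.UnivThick

theorem isUnivThickeningRing_localization {A B B' : Type u} [CommRing A] [CommRing B] [CommRing B']
    [Algebra A B] [Algebra A B'] {π : B' →ₐ[A] B} (hπ : OmegaSh.IsUnivThickeningRing A B B' π)
    (M' : Submonoid B') (M : Submonoid B) (hM : M'.map π.toRingHom.toMonoidHom = M)
    (AS BS B'S : Type u) [CommRing AS] [CommRing BS] [CommRing B'S] [Algebra A AS]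
    [Algebra B BS] [IsLocalization M BS] [Algebra B' B'S] [IsLocalization M' B'S]
    [Algebra AS BS] [Algebra A BS] [IsScalarTower A AS BS] [IsScalarTower A B BS]
    [Algebra AS B'S] [Algebra A B'S] [IsScalarTower A AS B'S] [IsScalarTower A B' B'S]
    (hAS : ∀ (C : Type u) [CommRing C] (f g : AS →+* C),
      f.comp (algebraMap A AS) = g.comp (algebraMap A AS) → f = g)
    (πS : B'S →ₐ[AS] BS) (hπS : ∀ x : B', πS (algebraMap B' B'S x) = algebraMap B BS (π x)) :
    OmegaSh.IsUnivThickeningRing AS BS B'S πS := by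
  obtain ⟨hs, hk, huniv⟩ := hπ
  refine ⟨fun z => ?_, ?_, fun C _ _ I hI a => ?_⟩
  · obtain ⟨b, ⟨m, hm⟩, rfl⟩ := IsLocalization.exists_mk'_eq M z
    rw [← hM] at hm
    obtain ⟨m', hm', rfl⟩ := hm
    obtain ⟨b', rfl⟩ := hs b
    refine ⟨IsLocalization.mk' B'S b' (⟨m', hm'⟩ : M'), ?_⟩
    rw [IsLocalization.eq_mk'_iff_mul_eq]
    show _ * algebraMap B BS (π m') = _
    rw [← hπS m', ← map_mul, IsLocalization.mk'_spec_mk, hπS]
  · rw [eq_bot_iff]
    refine le_trans (Ideal.pow_right_mono (?_ : RingHom.ker πS.toRingHom ≤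
      (RingHom.ker π.toRingHom).map (algebraMap B' B'S)) 2) ?_
    · intro z hz
      obtain ⟨x, s, rfl⟩ := IsLocalization.exists_mk'_eq M' z
      have h1 : πS (algebraMap B' B'S x) = 0 := by
        rw [← IsLocalization.mk'_spec B'S x s, map_mul, show πS (IsLocalization.mk' B'S x s) = 0 from hz,
          zero_mul]
      rw [hπS, IsLocalization.map_eq_zero_iff M] at h1
      obtain ⟨⟨t, ht⟩, htx⟩ := h1
      rw [← hM] at ht
      obtain ⟨t', ht', rfl⟩ := ht
      rw [IsLocalization.mk'_mem_map_algebraMap_iff]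
      exact ⟨t', ht', show π (t' * x) = 0 by rw [map_mul]; exact htx⟩
    · rw [← Ideal.map_pow, hk, Ideal.map_bot]
  · letI : Algebra A C := ((algebraMap AS C).comp (algebraMap A AS)).toAlgebra
    haveI : IsScalarTower A AS C := .of_algebraMap_eq' rfl
    obtain ⟨g, hg, hguniq⟩ := huniv C I hI
      ((a.restrictScalars A).comp (IsScalarTower.toAlgHom A B BS))
    have hgx : ∀ x, Ideal.Quotient.mk I (g x) = a (algebraMap B BS (π x)) := DFunLike.congr_fun hg
    have hu : ∀ m : M', IsUnit (g m) := fun m => by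
      have h1 : IsUnit (Ideal.Quotient.mk I (g m)) := by
        rw [hgx]
        exact (IsLocalization.map_units BS (⟨π m, hM ▸ ⟨m, m.2, rfl⟩⟩ : M)).map a
      obtain ⟨u, hu⟩ := h1.exists_right_inv
      obtain ⟨u, rfl⟩ := Ideal.Quotient.mk_surjective u
      rw [← map_mul, ← map_one (Ideal.Quotient.mk I), Ideal.Quotient.eq] at hu
      have hsq : (g m * u - 1) * (g m * u - 1) = 0 := by
        have h := Ideal.mul_mem_mul hu hu
        rwa [← pow_two, hI, Ideal.mem_bot] at h
      exact IsUnit.of_mul_eq_one (u * (2 - g m * u)) (by linear_combination -hsq)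
    let G : B'S →+* C := IsLocalization.lift (g := g.toRingHom) hu
    have hG : ∀ x, G (algebraMap B' B'S x) = g x := IsLocalization.lift_eq hu
    have hGAS : G.comp (algebraMap AS B'S) = algebraMap AS C := hAS C _ _ (RingHom.ext fun r => by
      show G (algebraMap AS B'S (algebraMap A AS r)) = algebraMap AS C (algebraMap A AS r)
      rw [← IsScalarTower.algebraMap_apply, ← IsScalarTower.algebraMap_apply,
        IsScalarTower.algebraMap_apply A B' B'S, hG, g.commutes])
    refine ⟨{ G with commutes' := RingHom.congr_fun hGAS }, ?_, fun G' hG' => ?_⟩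
    · refine AlgHom.coe_ringHom_injective (IsLocalization.ringHom_ext M' (RingHom.ext fun x => ?_))
      show Ideal.Quotient.mk I (G (algebraMap B' B'S x)) = a (πS (algebraMap B' B'S x))
      rw [hG, hgx, hπS]
    · have h1 : (G'.restrictScalars A).comp (IsScalarTower.toAlgHom A B' B'S) = g :=
        hguniq _ (AlgHom.ext fun x => by
          show Ideal.Quotient.mk I (G' (algebraMap B' B'S x)) = a (algebraMap B BS (π x))
          rw [← hπS]
          exact DFunLike.congr_fun hG' _)
      refine AlgHom.coe_ringHom_injective (IsLocalization.ringHom_ext M' (RingHom.ext fun x => ?_))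
      show G' (algebraMap B' B'S x) = G (algebraMap B' B'S x)
      rw [hG, ← DFunLike.congr_fun h1 x]
      rfl

end GrothLib.UnivThick
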