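import Groth.Prelude.Def_Omega3
import Groth.Agent.Lib.FormalLift.Basic
import Groth.Agent.Lib.UnivThick.FOT

/-!
# Universal first order thickenings of schemes: formal properties
-/

universe u

set_option maxHeartbeats 400000

namespace GrothLib.UnivThick

open AlgebraicGeometry CategoryTheory Limits
open GrothLib.FormalLift (UniqueLift uniqueLift_glue range_subset_of_surjective)

/-- Lifts through an open immersion of the source. -/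
theorem uniqueLift_openImmersion_iff {T T' W' Z' X : Scheme.{u}} (j : T ⟶ T') [Surjective j]
    (κ : W' ⟶ Z') [IsOpenImmersion κ] (h' : Z' ⟶ X) (α : T ⟶ W') (b : T' ⟶ X) :
    UniqueLift j h' (α ≫ κ) b ↔ UniqueLift j (κ ≫ h') α b := by
  have hr : ∀ n : T' ⟶ Z', j ≫ n = α ≫ κ → Set.range n ⊆ Set.range κ := fun n hn =>
    range_subset_of_surjective j hn (by rintro _ ⟨z, rfl⟩; exact ⟨α z, rfl⟩)
  constructor
  · rintro ⟨l, ⟨hl, hlb⟩, hu⟩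
    obtain ⟨l', rfl⟩ : ∃ l', l' ≫ κ = l := ⟨_, IsOpenImmersion.lift_fac κ l (hr l hl)⟩
    refine ⟨l', ⟨?_, by rw [← Category.assoc]; exact hlb⟩, fun n ⟨hn, hnb⟩ => ?_⟩
    · rw [← cancel_mono κ, Category.assoc]; exact hl
    · rw [← cancel_mono κ]
      exact hu _ ⟨by rw [reassoc_of% hn], by rw [Category.assoc]; exact hnb⟩
  · rintro ⟨l', ⟨hl, hlb⟩, hu⟩
    refine ⟨l' ≫ κ, ⟨by rw [reassoc_of% hl], by rw [Category.assoc]; exact hlb⟩, fun n ⟨hn, hnb⟩ => ?_⟩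
    obtain ⟨n', rfl⟩ : ∃ n', n' ≫ κ = n := ⟨_, IsOpenImmersion.lift_fac κ n (hr n hn)⟩
    rw [hu n' ⟨by rw [← cancel_mono κ, Category.assoc]; exact hn,
      by rw [← Category.assoc]; exact hnb⟩]

/-- Restriction of a universal thickening to an open of the target. -/
theorem univ_of_isPullback {W W' Z Z' X : Scheme.{u}} {h : Z ⟶ X} {i : Z ⟶ Z'} {h' : Z' ⟶ X}
    (hu : OmegaSh.IsUnivThickening h i h') {κZ : W ⟶ Z} {iW : W ⟶ W'} {κ : W' ⟶ Z'}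
    [IsOpenImmersion κ] (H : IsPullback κZ iW i κ) :
    OmegaSh.IsUnivThickening (κZ ≫ h) iW (κ ≫ h') := by
  obtain ⟨hi, hh, huniv⟩ := hu
  refine ⟨fot_of_isPullback H hi, by rw [← hh, H.w_assoc], fun T T' j b a hj w => ?_⟩
  haveI := fot_surjective hj
  show UniqueLift j (κ ≫ h') (a ≫ iW) b
  rw [← uniqueLift_openImmersion_iff, Category.assoc, ← H.w, ← Category.assoc]
  exact huniv T T' j b (a ≫ κZ) hj (by rw [w, Category.assoc])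

/-- Universal thickenings glue on the target. -/
theorem univ_of_local {Z Z' X : Scheme.{u}} (h : Z ⟶ X) (i : Z ⟶ Z') (h' : Z' ⟶ X)
    (hloc : ∀ x : Z', ∃ (W W' : Scheme.{u}) (κZ : W ⟶ Z) (iW : W ⟶ W') (κ : W' ⟶ Z'),
      IsPullback κZ iW i κ ∧ IsOpenImmersion κ ∧ x ∈ Set.range κ ∧
        OmegaSh.IsUnivThickening (κZ ≫ h) iW (κ ≫ h')) :
    OmegaSh.IsUnivThickening h i h' := by
  choose W W' κZ iW κ hsq hκ hx hu using hloc
  haveI := hκ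
  have hκZ : ∀ x, IsOpenImmersion (κZ x) := fun x =>
    MorphismProperty.of_isPullback (hsq x).flip (hκ x)
  haveI := hκZ
  have hrange : ∀ x z, i z ∈ Set.range (κ x) → z ∈ Set.range (κZ x) := by
    rintro x z ⟨w, hw⟩
    obtain ⟨p, hp, -⟩ := Scheme.exists_preimage_of_isPullback (hsq x) z w hw.symm
    exact ⟨p, hp⟩
  refine ⟨fot_of_local i fun x => ⟨_, _, _, _, _, hsq x, hκ x, hx x, (hu x).1⟩, ?_,
    fun T T' j b a hj w => ?_⟩
  · refine Scheme.Cover.hom_ext (Z.openCoverOfIsOpenCover (fun z : Z => (κZ (i z)).opensRange)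
      (top_unique fun z _ => TopologicalSpace.Opens.mem_iSup.mpr ⟨z, hrange _ _ (hx (i z))⟩)) _ _
      fun z => ?_
    show (κZ (i z)).opensRange.ι ≫ i ≫ h' = (κZ (i z)).opensRange.ι ≫ h
    rw [← cancel_epi (κZ (i z)).isoOpensRange.hom, Scheme.Hom.isoOpensRange_hom_ι_assoc,
      Scheme.Hom.isoOpensRange_hom_ι_assoc, (hsq _).w_assoc]
    exact (hu _).2.1
  · haveI := fot_isClosedImmersion hj
    haveI := fot_surjective hj
    show UniqueLift j h' (a ≫ i) b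
    refine uniqueLift_glue j h' (a ≫ i) b fun W₀ x hxW => ?_
    obtain ⟨z, hz⟩ := j.surjective x
    let k := i (a z)
    let O : Set T := a ⁻¹' Set.range (κZ k)
    let N : T'.Opens := ⟨(j '' Oᶜ)ᶜ, (j.isClosedEmbedding.isClosedMap _
      ((κZ k).isOpenEmbedding.isOpen_range.preimage a.continuous).isClosed_compl).isOpen_compl⟩
    refine ⟨W₀ ⊓ N, ⟨hxW, ?_⟩, inf_le_left, ?_⟩
    · rintro ⟨z', hz', hzz⟩
      exact hz' (j.isClosedEmbedding.injective (hzz.trans hz.symm) ▸ hrange k (a z) (hx k))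
    · let a₀ : (j ⁻¹ᵁ (W₀ ⊓ N) : T.Opens).toScheme ⟶ W k :=
        IsOpenImmersion.lift (κZ k) ((j ⁻¹ᵁ (W₀ ⊓ N)).ι ≫ a) (by
          rintro _ ⟨p, rfl⟩
          by_contra hn
          exact p.2.2 ⟨p.1, hn, rfl⟩)
      have ha₀ : a₀ ≫ κZ k = (j ⁻¹ᵁ (W₀ ⊓ N)).ι ≫ a := IsOpenImmersion.lift_fac _ _ _
      haveI := fot_surjective (fot_morphismRestrict hj (W₀ ⊓ N))
      rw [← Category.assoc, ← ha₀, Category.assoc, (hsq k).w, ← Category.assoc,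
        uniqueLift_openImmersion_iff]
      exact (hu k).2.2 _ _ (j ∣_ (W₀ ⊓ N)) _ a₀ (fot_morphismRestrict hj _)
        (by rw [morphismRestrict_ι_assoc, w, reassoc_of% ha₀])

/-- An open immersion of the base does not change universality. -/
theorem univ_comp_openImmersion {Z Z' U X : Scheme.{u}} {g : Z ⟶ U} {i : Z ⟶ Z'} {g' : Z' ⟶ U}
    (hu : OmegaSh.IsUnivThickening g i g') (k : U ⟶ X) [IsOpenImmersion k] :
    OmegaSh.IsUnivThickening (g ≫ k) i (g' ≫ k) := by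
  obtain ⟨hi, hh, huniv⟩ := hu
  refine ⟨hi, by rw [reassoc_of% hh], fun T T' j b a hj w => ?_⟩
  haveI := fot_surjective hj
  obtain ⟨b', rfl⟩ : ∃ b', b' ≫ k = b := ⟨_, IsOpenImmersion.lift_fac k b
    (range_subset_of_surjective j w (by rintro _ ⟨z, rfl⟩; exact ⟨(a ≫ g) z, rfl⟩))⟩
  obtain ⟨l, ⟨hl, hlb⟩, hl'⟩ := huniv T T' j b' a hj
    (by rw [← cancel_mono k, Category.assoc, Category.assoc]; exact w)
  exact ⟨l, ⟨hl, by rw [reassoc_of% hlb]⟩,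
    fun n ⟨hn, hnb⟩ => hl' n ⟨hn, by rw [← cancel_mono k, Category.assoc, hnb]⟩⟩

/-- A monomorphism of the base can be cancelled. -/
theorem univ_of_comp_mono {Z Z' U X : Scheme.{u}} {g : Z ⟶ U} {i : Z ⟶ Z'} {g' : Z' ⟶ U}
    (k : U ⟶ X) [Mono k] (hu : OmegaSh.IsUnivThickening (g ≫ k) i (g' ≫ k)) :
    OmegaSh.IsUnivThickening g i g' := by
  obtain ⟨hi, hh, huniv⟩ := hu
  refine ⟨hi, by rw [← cancel_mono k, Category.assoc]; exact hh, fun T T' j b a hj w => ?_⟩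
  obtain ⟨l, ⟨hl, hlb⟩, hl'⟩ := huniv T T' j (b ≫ k) a hj (by rw [reassoc_of% w])
  exact ⟨l, ⟨hl, by rw [← cancel_mono k, Category.assoc]; exact hlb⟩,
    fun n ⟨hn, hnb⟩ => hl' n ⟨hn, by rw [reassoc_of% hnb]⟩⟩

/-- Precomposition with an isomorphism of the source. -/
theorem univ_iso_source {W Z Z' X : Scheme.{u}} {h : Z ⟶ X} {i : Z ⟶ Z'} {h' : Z' ⟶ X}
    (hu : OmegaSh.IsUnivThickening h i h') (e : W ≅ Z) :
    OmegaSh.IsUnivThickening (e.hom ≫ h) (e.hom ≫ i) h' := by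
  have := univ_of_isPullback hu (κZ := e.hom) (iW := e.hom ≫ i) (κ := 𝟙 Z')
    (IsPullback.of_horiz_isIso ⟨by simp⟩)
  rwa [Category.id_comp] at this

/-- The unique comparison map. -/
theorem univ_hom {Z₁ Z₁' Z₂ Z₂' X : Scheme.{u}} {h₁ : Z₁ ⟶ X} {i₁ : Z₁ ⟶ Z₁'} {g₁ : Z₁' ⟶ X}
    {h₂ : Z₂ ⟶ X} {i₂ : Z₂ ⟶ Z₂'} {g₂ : Z₂' ⟶ X} (hu₁ : OmegaSh.IsUnivThickening h₁ i₁ g₁)
    (hu₂ : OmegaSh.IsUnivThickening h₂ i₂ g₂) (r : Z₁ ⟶ Z₂) (hr : r ≫ h₂ = h₁) :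
    ∃! m : Z₁' ⟶ Z₂', i₁ ≫ m = r ≫ i₂ ∧ m ≫ g₂ = g₁ :=
  hu₂.2.2 _ _ i₁ g₁ r hu₁.1 (hu₁.2.1.trans hr.symm)

/-- Two universal thickenings are isomorphic. -/
theorem univ_iso {Z Z₁ Z₂ X : Scheme.{u}} {h : Z ⟶ X} {i₁ : Z ⟶ Z₁} {g₁ : Z₁ ⟶ X} {i₂ : Z ⟶ Z₂}
    {g₂ : Z₂ ⟶ X} (hu₁ : OmegaSh.IsUnivThickening h i₁ g₁)
    (hu₂ : OmegaSh.IsUnivThickening h i₂ g₂) : ∃ e : Z₁ ≅ Z₂, i₁ ≫ e.hom = i₂ ∧ e.hom ≫ g₂ = g₁ := by
  obtain ⟨m, ⟨hm, hmg⟩, -⟩ := univ_hom hu₁ hu₂ (𝟙 Z) (Category.id_comp _)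
  obtain ⟨n, ⟨hn, hng⟩, -⟩ := univ_hom hu₂ hu₁ (𝟙 Z) (Category.id_comp _)
  rw [Category.id_comp] at hm hn
  refine ⟨⟨m, n, ?_, ?_⟩, hm, hmg⟩
  · exact (univ_hom hu₁ hu₁ (𝟙 Z) (Category.id_comp _)).unique
      ⟨by rw [reassoc_of% hm, hn, Category.id_comp], by rw [Category.assoc, hng, hmg]⟩
      ⟨by simp, by simp⟩
  · exact (univ_hom hu₂ hu₂ (𝟙 Z) (Category.id_comp _)).unique
      ⟨by rw [reassoc_of% hn, hm, Category.id_comp], by rw [Category.assoc, hmg, hng]⟩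
      ⟨by simp, by simp⟩

end GrothLib.UnivThick
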